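import Mathlib
import Cfsg.Agent.Lib.Char.Clifford
import Cfsg.Agent.Lib.Char.Kernel

/-!
# Taketa's theorem
-/

set_option autoImplicit false
open Cfsg
open scoped ComplexConjugate commutatorElement

namespace CfsgLib.Char

open Finset

variable {G : Type*} [Group G]

/-- An element in the kernel of the permutation character on the cosets of `H` lies in `H`. -/
theorem mem_of_indFun_one_eq [Fintype G] (H : Subgroup G) {x : G}
    (h : indFun H (fun _ => 1) x = indFun H (fun _ => 1) 1) : x ∈ H := by
  classical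
  have key : ∀ y : G, extendByZero H (fun _ => (1 : ℂ)) y = if y ∈ H then 1 else 0 := by
    intro y
    split_ifs with hy
    · exact Subtype.val_injective.extend_apply (fun _ : H => (1 : ℂ)) (0 : G → ℂ) ⟨y, hy⟩
    · rw [extendByZero, Function.extend_apply']
      · rfl
      · rintro ⟨n, rfl⟩; exact hy n.2
  unfold indFun at h
  have h2 := mul_left_cancel₀ (inv_ne_zero natCard_ne_zero) h
  simp only [key, mul_one, inv_mul_cancel, one_mem, if_true, sum_const, card_univ, nsmul_eq_mul,
    sum_boole] at h2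
  have h3 : (univ.filter fun y : G => y⁻¹ * x * y ∈ H).card = Fintype.card G := by exact_mod_cast h2
  have h4 := Finset.eq_univ_of_card _ h3
  have h5 : (1 : G) ∈ univ.filter fun y : G => y⁻¹ * x * y ∈ H := by rw [h4]; exact mem_univ _
  simpa using h5

/-- In an M-group every perfect normal subgroup is trivial. -/
theorem eq_bot_of_monomial_of_perfect [Fintype G]
    (hM : ∀ χ : G → ℂ, IsIrrCharacter G χ →
      ∃ (H : Subgroup G) (lam : H →* ℂˣ), χ = indFun H (fun h => (lam h : ℂ)))
    (N : Subgroup G) [hN : N.Normal] (hperf : ⁅N, N⁆ = N) : N = ⊥ := by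
  classical
  have main : ∀ d : ℕ, ∀ χ : G → ℂ, IsIrrCharacter G χ → χ 1 = d → ∀ x ∈ N, χ x = χ 1 := by
    intro d
    induction d using Nat.strong_induction_on with
    | _ d ih =>
    intro χ hχ hd
    obtain ⟨H, lam, rfl⟩ := hM χ hχ
    have hidx : H.index = d := by
      rw [indFun_one] at hd
      simp only [map_one, Units.val_one, mul_one] at hd
      exact_mod_cast hd
    have hsmall : ∀ Ξ : G → ℂ, IsCharacter G Ξ → ∀ m : ℕ, Ξ 1 = m → m < d → ∀ x ∈ N, Ξ x = Ξ 1 := by
      intro Ξ hΞ
      refine isCharacter_induction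
        (P := fun Ξ => ∀ m : ℕ, Ξ 1 = m → m < d → ∀ x ∈ N, Ξ x = Ξ 1) ?_ ?_ hΞ
      · intro _ _ _ _ _; rfl
      · intro φ ψ hφ hψ ihψ m hm hmd x hx
        obtain ⟨a, -, ha⟩ := exists_irr_one_eq_nat hφ
        obtain ⟨b, hb⟩ := exists_char_one_eq_nat hψ
        rw [Pi.add_apply, ha, hb] at hm
        have hm' : a + b = m := by exact_mod_cast hm
        rw [Pi.add_apply, Pi.add_apply, ih a (by omega) φ hφ ha x hx, ihψ b hb (by omega) x hx]
    have h1 : classInner (indFun H (fun _ => 1)) (fun _ => 1) ≠ 0 := by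
      rw [classInner_indFun_left H _ (isClassFunction_const 1), classInner_one_one]
      exact one_ne_zero
    obtain ⟨Ξ, hΞ, hsum⟩ :=
      exists_eq_add_of_inner_ne_zero (isCharacter_indFun H isCharacter_one) isIrr_one h1
    obtain ⟨m, hm⟩ := exists_char_one_eq_nat hΞ
    have h2 := congrFun hsum 1
    rw [indFun_one, Pi.add_apply, hm, mul_one, hidx] at h2
    have h3 : d = 1 + m := by exact_mod_cast h2
    have hNH : N ≤ H := by
      intro x hx
      apply mem_of_indFun_one_eq
      rw [hsum, Pi.add_apply, Pi.add_apply, hsmall Ξ hΞ m hm (by omega) x hx]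
    have hlam : ∀ (x : G) (hx : x ∈ N), lam ⟨x, hNH hx⟩ = 1 := by
      have : N ≤ (lam.ker).map H.subtype := by
        rw [← hperf, Subgroup.commutator_le]
        intro a ha b hb
        refine ⟨⁅(⟨a, hNH ha⟩ : H), (⟨b, hNH hb⟩ : H)⁆, ?_, rfl⟩
        rw [SetLike.mem_coe, MonoidHom.mem_ker, map_commutatorElement]
        exact commutatorElement_eq_one_iff_commute.mpr (Commute.all _ _)
      intro x hx
      obtain ⟨y, hy, rfl⟩ := this hx
      exact hy
    intro x hx
    unfold indFun
    congr 1
    refine Finset.sum_congr rfl ?_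
    intro y _
    have e1 : y⁻¹ * x * y ∈ N := by simpa using hN.conj_mem x hx y⁻¹
    have e2 : y⁻¹ * 1 * y ∈ N := by simp
    have key : ∀ z (hz : z ∈ N), extendByZero H (fun h => (lam h : ℂ)) z = 1 := by
      intro z hz
      have := Subtype.val_injective.extend_apply (fun h : H => (lam h : ℂ)) (0 : G → ℂ)
        ⟨z, hNH hz⟩
      rw [hlam z hz] at this
      exact this
    rw [key _ e1, key _ e2]
  rw [eq_bot_iff]
  intro x hx
  rw [Subgroup.mem_bot]
  apply eq_one_of_forall_irr_eq
  intro χ hχ
  obtain ⟨d, -, hd⟩ := exists_irr_one_eq_nat hχ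
  exact main d χ hχ hd x hx

/-- The derived series of a finite group stabilizes at a perfect subgroup. -/
theorem exists_derivedSeries_perfect [Finite G] :
    ∃ n, ⁅derivedSeries G n, derivedSeries G n⁆ = derivedSeries G n := by
  by_contra h
  push Not at h
  have hlt : ∀ n, derivedSeries G (n + 1) < derivedSeries G n := by
    intro n
    exact lt_of_le_of_ne (Subgroup.commutator_le_left _ _) (h n)
  exact (RelEmbedding.natGT (derivedSeries G) hlt).not_wellFounded (wellFounded_lt)

/-- Taketa's theorem: M-groups are solvable. -/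
theorem taketa [Fintype G]
    (hM : ∀ χ : G → ℂ, IsIrrCharacter G χ →
      ∃ (H : Subgroup G) (lam : H →* ℂˣ), χ = indFun H (fun h => (lam h : ℂ))) :
    Group.IsSolvable G := by
  obtain ⟨n, hn⟩ := exists_derivedSeries_perfect (G := G)
  exact ⟨⟨n, eq_bot_of_monomial_of_perfect hM _ hn⟩⟩

end CfsgLib.Char
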